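import Groth.Agent.PruferDim.Basic
import Groth.Agent.CMChart.AffineField
/-!
Quasi-finite maps to affine space with prescribed preimage of a prime.
-/
set_option autoImplicit false
set_option linter.style.haveILetI false
set_option backward.isDefEq.respectTransparency false
universe u
open TensorProduct PrimeSpectrum

namespace Groth.Agent.NoethPre

open Unibranch

variable {R S : Type u} [CommRing R] [CommRing S] [Algebra R S] [Algebra.FiniteType R S]

theorem trdeg_eq_of_ringHom {A K D F : Type u} [CommRing A] [IsDomain A] [Field K] [CommRing D] [CommRing F]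
    [IsDomain F] [Algebra A D] [Algebra A K] [Algebra.IsAlgebraic A K] [FaithfulSMul A K] [Algebra K F]
    (j : D →+* F) (hj : Function.Injective j) (hAD : Function.Injective (algebraMap A D))
    (hcomm : ∀ a, j (algebraMap A D a) = algebraMap K F (algebraMap A K a))
    (halg : ∀ x : F, ∃ d : D, d ≠ 0 ∧ ∃ e : D, j d * x = j e) : Algebra.trdeg K F = Algebra.trdeg A D := by
  letI : Algebra A F := ((algebraMap K F).comp (algebraMap A K)).toAlgebra
  haveI : IsScalarTower A K F := IsScalarTower.of_algebraMap_eq fun _ => rfl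
  haveI : FaithfulSMul K F := (faithfulSMul_iff_algebraMap_injective K F).2 (algebraMap K F).injective
  let j' : D →ₐ[A] F := { j with commutes' := hcomm }
  rw [PruferDim.trdeg_eq_of_injective j' hj hAD halg, ← trdeg_add_eq A K (A := F),
    trdeg_eq_zero (R := A) (A := K), zero_add]

/-- Fibre primes have the same transcendence degree as the primes below. -/
theorem trdeg_fiber_eq (p : Ideal R) [p.IsPrime] (Q : Ideal (p.Fiber S)) [Q.IsPrime] (q : Ideal S) [q.IsPrime]
    (hQ : Q.comap (Algebra.TensorProduct.includeRight : S →ₐ[R] p.Fiber S).toRingHom = q) (hu : q.under R = p) :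
    Algebra.trdeg p.ResidueField (p.Fiber S ⧸ Q) = (rdim R q : Cardinal.{u}) := by
  haveI : q.LiesOver p := ⟨hu.symm⟩
  haveI : IsDomain (R ⧸ p) := Ideal.Quotient.isDomain p
  haveI : IsDomain (p.Fiber S ⧸ Q) := Ideal.Quotient.isDomain Q
  let inc : S →+* p.Fiber S := (Algebra.TensorProduct.includeRight : S →ₐ[R] p.Fiber S).toRingHom
  have hinc : ∀ c : R, inc (algebraMap R S c) = algebraMap p.ResidueField (p.Fiber S) (algebraMap R p.ResidueField c) :=
    fun c => ((Algebra.TensorProduct.includeRight : S →ₐ[R] p.Fiber S).commutes c).trans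
      (IsScalarTower.algebraMap_apply R p.ResidueField (p.Fiber S) c)
  let j₀ : S →+* p.Fiber S ⧸ Q := (Ideal.Quotient.mk Q).comp inc
  have hker : ∀ s, j₀ s = 0 ↔ s ∈ q := fun s => by
    rw [RingHom.comp_apply, Ideal.Quotient.eq_zero_iff_mem, ← hQ]
    rfl
  haveI : Algebra.IsAlgebraic (R ⧸ p) p.ResidueField := IsLocalization.isAlgebraic _ (nonZeroDivisors (R ⧸ p))
  haveI : FaithfulSMul (R ⧸ p) p.ResidueField :=
    (faithfulSMul_iff_algebraMap_injective _ _).2 (IsFractionRing.injective (R ⧸ p) p.ResidueField)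
  have h1 := trdeg_eq_of_ringHom (A := R ⧸ p) (K := p.ResidueField) (D := S ⧸ q) (F := p.Fiber S ⧸ Q)
    (Ideal.Quotient.lift q j₀ fun s hs => (hker s).2 hs)
    ((injective_iff_map_eq_zero _).2 fun s hs => by
      obtain ⟨s, rfl⟩ := Ideal.Quotient.mk_surjective s
      exact Ideal.Quotient.eq_zero_iff_mem.2 ((hker s).1 hs))
    (fun a b hab => by
      obtain ⟨a, rfl⟩ := Ideal.Quotient.mk_surjective a
      obtain ⟨b, rfl⟩ := Ideal.Quotient.mk_surjective b
      change Ideal.Quotient.mk q (algebraMap R S a) = Ideal.Quotient.mk q (algebraMap R S b) at hab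
      rw [Ideal.Quotient.eq, ← map_sub] at hab
      rw [Ideal.Quotient.eq, ← hu]
      exact hab)
    (fun c => by
      obtain ⟨c, rfl⟩ := Ideal.Quotient.mk_surjective c
      exact congrArg (Ideal.Quotient.mk Q) (hinc c))
    fun x => by
      obtain ⟨x, rfl⟩ := Ideal.Quotient.mk_surjective x
      obtain ⟨r, hr, s, hs⟩ := Ideal.Fiber.exists_smul_eq_one_tmul p x
      refine ⟨Ideal.Quotient.mk q (algebraMap R S r),
        fun h => hr (hu.le (Ideal.Quotient.eq_zero_iff_mem.1 h : algebraMap R S r ∈ q)), Ideal.Quotient.mk q s, ?_⟩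
      show Ideal.Quotient.mk Q (inc (algebraMap R S r)) * Ideal.Quotient.mk Q x = Ideal.Quotient.mk Q (inc s)
      rw [← map_mul]
      refine congrArg (Ideal.Quotient.mk Q) ?_
      rw [show inc s = r • x from hs.symm, Algebra.smul_def]
      exact congrArg (· * x) ((Algebra.TensorProduct.includeRight : S →ₐ[R] p.Fiber S).commutes r)
  have hcast : ∀ p' : Ideal R, ∀ [q.LiesOver p'],
      (rdim R q : Cardinal.{u}) = Algebra.trdeg (R ⧸ p') (S ⧸ q) := fun p' h => by
    obtain rfl := Ideal.over_def q p'
    exact natCast_rdim q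
  exact h1.trans (hcast p).symm

theorem trdeg_residueField {K C : Type u} [Field K] [CommRing C] [Algebra K C] (Q : Ideal C) [Q.IsPrime] :
    Algebra.trdeg K (C ⧸ Q) = Algebra.trdeg K Q.ResidueField := by
  haveI : IsDomain (C ⧸ Q) := Ideal.Quotient.isDomain Q
  refine (trdeg_eq_of_ringHom (A := K) (K := K) (D := C ⧸ Q) (F := Q.ResidueField) (algebraMap (C ⧸ Q) Q.ResidueField)
    (IsFractionRing.injective _ _) (algebraMap K (C ⧸ Q)).injective (fun _ => rfl) fun z => ?_).symm
  obtain ⟨⟨e, s⟩, hz⟩ := IsLocalization.surj (nonZeroDivisors (C ⧸ Q)) z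
  exact ⟨s, nonZeroDivisors.ne_zero s.2, e, by rw [mul_comm]; exact hz⟩

theorem eq_of_le_of_trdeg {K C : Type u} [Field K] [CommRing C] [Algebra K C] [Algebra.FiniteType K C]
    (Q Z : Ideal C) [Q.IsPrime] [Z.IsPrime] (hle : Q ≤ Z) {a b : ℕ} (ha : Algebra.trdeg K (C ⧸ Q) = (a : Cardinal.{u}))
    (hb : Algebra.trdeg K (C ⧸ Z) = (b : Cardinal.{u})) (hab : a ≤ b) : Z = Q := by
  haveI : IsDomain (C ⧸ Q) := Ideal.Quotient.isDomain _
  let Z' : Ideal (C ⧸ Q) := Z.map (Ideal.Quotient.mk Q)
  haveI : Z'.IsPrime := Ideal.map_isPrime_of_surjective Ideal.Quotient.mk_surjective (by rw [Ideal.mk_ker]; exact hle)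
  obtain ⟨h, τ, s, hh, hτ, hs, hsum⟩ := DimFormula.exists_height_add_trdeg K (F := C ⧸ Q) Z'
  let e : ((C ⧸ Q) ⧸ Z') ≃ₐ[K] C ⧸ Z :=
    AlgEquiv.ofRingEquiv (f := DoubleQuot.quotQuotEquivQuotOfLE hle) fun _ => rfl
  rw [e.trdeg_eq, hb] at hτ
  rw [ha] at hs
  have h0 : h = 0 := by
    have h3 : b = τ := by exact_mod_cast hτ
    have h4 : a = s := by exact_mod_cast hs
    omega
  subst h0
  haveI : IsNoetherianRing (C ⧸ Q) := Algebra.FiniteType.isNoetherianRing K _
  have hbot : Z' ∈ minimalPrimes (C ⧸ Q) := Ideal.mem_minimalPrimes_of_height_le bot_le (by rw [hh]; exact zero_le)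
  rw [IsDomain.minimalPrimes_eq_singleton_bot, Set.mem_singleton_iff] at hbot
  exact le_antisymm (((Ideal.map_eq_bot_iff_le_ker _).1 hbot).trans Ideal.mk_ker.le) hle

/-- The construction. -/
theorem exists_coords (p : Ideal R) [p.IsPrime] (q : Ideal S) [q.IsPrime] (hu : q.under R = p)
    (Q : PrimeSpectrum (p.Fiber S))
    (hQ : Q.asIdeal.comap (Algebra.TensorProduct.includeRight : S →ₐ[R] p.Fiber S).toRingHom = q) (n : ℕ)
    (hdim : FlatMor.localDim (PrimeSpectrum (p.Fiber S)) Q = (n : WithBot ℕ∞)) :
    ∃ x : Fin n → S,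
      q.comap (MvPolynomial.aeval (R := R) x).toRingHom = p.map (MvPolynomial.C : R →+* MvPolynomial (Fin n) R) ⊔
        Ideal.span (Set.range fun i : {i : Fin n // rdim R q ≤ (i : ℕ)} =>
          (MvPolynomial.X (i : Fin n) : MvPolynomial (Fin n) R)) ∧
      letI := (MvPolynomial.aeval (R := R) x).toRingHom.toAlgebra
      Algebra.QuasiFiniteAt (MvPolynomial (Fin n) R) q := by
  classical
  haveI : IsNoetherianRing (p.Fiber S) := Algebra.FiniteType.isNoetherianRing p.ResidueField _
  let inc : S →+* p.Fiber S := (Algebra.TensorProduct.includeRight : S →ₐ[R] p.Fiber S).toRingHom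
  have hmem : ∀ c : R, c ∈ p ↔ algebraMap R S c ∈ q := fun c => by rw [← hu]; rfl
  have hrd := trdeg_fiber_eq p Q.asIdeal q hQ hu
  obtain ⟨b, δ, hb, hD, hδ⟩ := CMChart.localDim_primeSpectrum (k := p.ResidueField) Q
  have hδ' : δ = rdim R q := by
    have h := trdeg_residueField (K := p.ResidueField) Q.asIdeal
    rw [hrd, hδ] at h
    exact_mod_cast h.symm
  obtain rfl : n = δ + b := by
    rw [hdim] at hD
    have : n = b + δ := by exact_mod_cast hD
    omega
  subst hδ'
  have hht : Q.asIdeal.height = (b : ℕ∞) := by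
    have h1 := IsLocalization.AtPrime.ringKrullDim_eq_height Q.asIdeal (Localization.AtPrime Q.asIdeal)
    rw [hb] at h1
    exact_mod_cast h1.symm
  obtain ⟨F, hFmin, hFcard⟩ := Ideal.exists_finset_card_eq_height_of_isNoetherianRing Q.asIdeal
  rw [hht] at hFcard
  have hb' : F.card = b := by exact_mod_cast hFcard
  let v : Fin b → p.Fiber S := fun i => (F.equivFinOfCardEq hb').symm i
  have hv : Set.range v = (F : Set (p.Fiber S)) := by
    ext z
    exact ⟨fun ⟨i, hi⟩ => hi ▸ ((F.equivFinOfCardEq hb').symm i).2,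
      fun hz => ⟨F.equivFinOfCardEq hb' ⟨z, hz⟩, by simp [v]⟩⟩
  choose r hr y hy using fun i => Ideal.Fiber.exists_smul_eq_one_tmul p (v i)
  have hspan : Ideal.span (Set.range fun i => inc (y i)) = Ideal.span (F : Set (p.Fiber S)) := by
    rw [← hv]
    refine le_antisymm (Ideal.span_le.2 ?_) (Ideal.span_le.2 ?_)
    · rintro _ ⟨i, rfl⟩
      show inc (y i) ∈ Ideal.span (Set.range v)
      rw [show inc (y i) = r i • v i from (hy i).symm, Algebra.smul_def]
      exact Ideal.mul_mem_left _ _ (Ideal.subset_span ⟨i, rfl⟩)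
    · rintro _ ⟨i, rfl⟩
      have hu : IsUnit (algebraMap R (p.Fiber S) (r i)) := by
        rw [IsScalarTower.algebraMap_apply R p.ResidueField (p.Fiber S)]
        exact (IsUnit.mk0 _ fun h => hr i (Ideal.algebraMap_residueField_eq_zero.1 h)).map _
      obtain ⟨w, hw⟩ := hu.exists_left_inv
      rw [SetLike.mem_coe, show v i = w * inc (y i) by
        rw [show inc (y i) = r i • v i from (hy i).symm, Algebra.smul_def, ← mul_assoc, hw, one_mul]]
      exact Ideal.mul_mem_left _ _ (Ideal.subset_span ⟨i, rfl⟩)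
  have hyq : ∀ i, y i ∈ q := fun i => by
    rw [← hQ, Ideal.mem_comap]
    exact hFmin.1.2 (hspan ▸ Ideal.subset_span ⟨i, rfl⟩)
  obtain ⟨t, ht, -⟩ := exists_genAt (A := R) q
  let x : Fin (rdim R q + b) → S := Fin.append (fun i => t ⟨i⟩) y
  refine ⟨x, ?_, ?_⟩
  · -- the preimage
    apply le_antisymm
    · intro P hP
      let π : MvPolynomial (Fin (rdim R q + b)) R →ₐ[R] MvPolynomial (ULift.{u} (Fin (rdim R q))) R :=
        MvPolynomial.aeval (Fin.append (fun i => MvPolynomial.X ⟨i⟩) fun _ => 0)
      let σ : MvPolynomial (ULift.{u} (Fin (rdim R q))) R →ₐ[R] MvPolynomial (Fin (rdim R q + b)) R :=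
        MvPolynomial.aeval fun i => MvPolynomial.X (Fin.castAdd b i.down)
      set I := p.map (MvPolynomial.C : R →+* MvPolynomial (Fin (rdim R q + b)) R) ⊔
        Ideal.span (Set.range fun i : {i : Fin (rdim R q + b) // rdim R q ≤ (i : ℕ)} =>
          (MvPolynomial.X (i : Fin (rdim R q + b)) : MvPolynomial (Fin (rdim R q + b)) R))
      have hdiff : ∀ P, σ (π P) - P ∈ I := by
        intro P
        rw [← Ideal.Quotient.eq]
        have h : (Ideal.Quotient.mk I).comp (σ.comp π).toRingHom = Ideal.Quotient.mk I := by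
          refine MvPolynomial.ringHom_ext (fun c => ?_) (fun i => ?_)
          · rw [RingHom.comp_apply, ← MvPolynomial.algebraMap_eq]
            exact congrArg _ ((σ.comp π).commutes c)
          · induction i using Fin.addCases with
            | left i => simp [π, σ]
            | right i =>
              simp only [RingHom.comp_apply, AlgHom.toRingHom_eq_coe, RingHom.coe_coe, AlgHom.comp_apply, π,
                MvPolynomial.aeval_X, Fin.append_right, map_zero]
              exact (Ideal.Quotient.eq_zero_iff_mem.2 (show MvPolynomial.X (Fin.natAdd (rdim R q) i) ∈ I from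
                Ideal.mem_sup_right (Ideal.subset_span
                  ⟨(⟨Fin.natAdd (rdim R q) i, by simp⟩ : {j : Fin (rdim R q + b) // rdim R q ≤ (j : ℕ)}), rfl⟩))).symm
        exact congr($h P)
      have hIq : I ≤ q.comap (MvPolynomial.aeval (R := R) x).toRingHom := by
        refine sup_le (Ideal.map_le_iff_le_comap.2 fun c hc => ?_) (Ideal.span_le.2 ?_)
        · simpa [Ideal.mem_comap] using (hmem c).1 hc
        · rintro _ ⟨⟨i, hi⟩, rfl⟩
          induction i using Fin.addCases with
          | left i => simp at hi; omega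
          | right i => simpa [x] using hyq i
      have hcomp : ∀ P, MvPolynomial.aeval (R := R) x (σ P) = MvPolynomial.aeval (R := R) t P := by
        intro P
        rw [← AlgHom.comp_apply, MvPolynomial.comp_aeval]
        congr 2
        funext i
        simp [x]
      have h1 : π P ∈ q.comap (MvPolynomial.aeval (R := R) t).toRingHom := by
        show MvPolynomial.aeval (R := R) t (π P) ∈ q
        rw [← hcomp]
        have := q.add_mem (hIq (hdiff P)) hP
        simpa using this
      rw [(genAt_iff_comap t q).1 ht, hu] at h1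
      have h2 : σ (π P) ∈ I := by
        refine Ideal.mem_sup_left ?_
        have := Ideal.mem_map_of_mem σ.toRingHom h1
        rw [Ideal.map_map] at this
        convert! this using 2
        ext c
        simp [σ]
      have := I.sub_mem h2 (hdiff P)
      rwa [sub_sub_cancel] at this
    · refine sup_le (Ideal.map_le_iff_le_comap.2 fun c hc => ?_) (Ideal.span_le.2 ?_)
      · simpa [Ideal.mem_comap] using (hmem c).1 hc
      · rintro _ ⟨⟨i, hi⟩, rfl⟩
        induction i using Fin.addCases with
        | left i => simp at hi; omega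
        | right i => simpa [x] using hyq i
  · letI := (MvPolynomial.aeval (R := R) x).toRingHom.toAlgebra
    haveI : IsScalarTower R (MvPolynomial (Fin (rdim R q + b)) R) S :=
      IsScalarTower.of_algebraMap_eq fun c => ((MvPolynomial.aeval (R := R) x).commutes c).symm
    haveI : Algebra.FiniteType (MvPolynomial (Fin (rdim R q + b)) R) S :=
      Algebra.FiniteType.of_restrictScalars_finiteType R _ S
    let qs : PrimeSpectrum S := ⟨q, inferInstance⟩
    let J : Ideal (p.Fiber S) := Ideal.span (F : Set (p.Fiber S))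
    let T := (Ideal.finite_minimalPrimes_of_isNoetherianRing (p.Fiber S) J).toFinset.erase Q.asIdeal
    have hT : ¬ T.inf id ≤ Q.asIdeal := fun h => by
      obtain ⟨W, hW, hWQ⟩ := (Ideal.IsPrime.inf_le' Q.2).1 h
      rw [Finset.mem_erase, Set.Finite.mem_toFinset] at hW
      exact hW.1 (le_antisymm hWQ (hFmin.2 hW.2.1 hWQ))
    obtain ⟨g', hg'T, hg'Q⟩ := SetLike.not_le_iff_exists.1 hT
    obtain ⟨c, hc, g, hg⟩ := Ideal.Fiber.exists_smul_eq_one_tmul p g'
    have hgq : g ∉ q := by
      rw [← hQ, Ideal.mem_comap]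
      intro h
      rw [show inc g = c • g' from hg.symm, Algebra.smul_def] at h
      rcases Q.2.mem_or_mem h with h' | h'
      · refine hc ((hmem c).2 ?_)
        show algebraMap R S c ∈ q
        rw [← hQ, Ideal.mem_comap]
        show inc (algebraMap R S c) ∈ Q.asIdeal
        rw [show inc (algebraMap R S c) = algebraMap R (p.Fiber S) c from
          (Algebra.TensorProduct.includeRight : S →ₐ[R] p.Fiber S).commutes c]
        exact h'
      · exact hg'Q h'
    refine Algebra.QuasiFiniteAt.of_isOpen_singleton_fiber qs ?_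
    convert! (PrimeSpectrum.basicOpen g).2.preimage (continuous_subtype_val
      (p := fun z => z ∈ comap (algebraMap (MvPolynomial (Fin (rdim R q + b)) R) S) ⁻¹' {comap _ qs})) using 1
    ext ⟨z, hz⟩
    refine ⟨fun h => ?_, fun hgz => ?_⟩
    · obtain rfl : z = qs := congrArg Subtype.val h
      exact hgq
    · refine Subtype.ext (PrimeSpectrum.ext ?_)
      have hzq : z.asIdeal.comap (MvPolynomial.aeval (R := R) x).toRingHom =
          q.comap (MvPolynomial.aeval (R := R) x).toRingHom := congrArg PrimeSpectrum.asIdeal hz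
      have hzp : comap (algebraMap R S) z = ⟨p, inferInstance⟩ := PrimeSpectrum.ext <| Ideal.ext fun e => by
        have := SetLike.ext_iff.1 hzq (MvPolynomial.C e)
        simpa [Ideal.mem_comap, Ideal.under_def, ← hmem] using this
      let Z : PrimeSpectrum (p.Fiber S) := PrimeSpectrum.preimageOrderIsoFiber R S ⟨p, inferInstance⟩ ⟨z, hzp⟩
      have hZ : Z.asIdeal.comap inc = z.asIdeal := by
        have ho : ∀ W : PrimeSpectrum (p.Fiber S),
            ((PrimeSpectrum.preimageOrderIsoFiber R S ⟨p, inferInstance⟩).symm W).1.asIdeal = W.asIdeal.comap inc :=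
          fun W => by simp [inc]; rfl
        rw [← ho]
        simp [Z]
      have hyz : ∀ i, y i ∈ z.asIdeal := fun i => by
        have := SetLike.ext_iff.1 hzq (MvPolynomial.X (Fin.natAdd (rdim R q) i))
        simp only [Ideal.mem_comap, AlgHom.toRingHom_eq_coe, RingHom.coe_coe, MvPolynomial.aeval_X, x,
          Fin.append_right] at this
        exact this.2 (hyq i)
      have hJZ : J ≤ Z.asIdeal := by
        show Ideal.span (F : Set (p.Fiber S)) ≤ _
        rw [← hspan, Ideal.span_le]
        rintro _ ⟨i, rfl⟩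
        rw [SetLike.mem_coe, ← Ideal.mem_comap, hZ]
        exact hyz i
      obtain ⟨W, hW, hWZ⟩ := Ideal.exists_minimalPrimes_le hJZ
      have hWQ : W = Q.asIdeal := by
        by_contra hne
        refine hgz ?_
        rw [← hZ, Ideal.mem_comap, show inc g = c • g' from hg.symm, Algebra.smul_def]
        exact Ideal.mul_mem_left _ _ (hWZ ((Finset.inf_le (f := id) (Finset.mem_erase.2
          ⟨hne, (Set.Finite.mem_toFinset _).2 hW⟩)) hg'T))
      subst hWQ
      -- no room above `Q`
      have hge : rdim R q ≤ rdim R z.asIdeal := by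
        have hgen : GenAt (A := R) t z.asIdeal := by
          rw [genAt_iff_comap]
          have hu' : z.asIdeal.under R = p := congrArg PrimeSpectrum.asIdeal hzp
          rw [hu', ← hu, ← (genAt_iff_comap t q).1 ht]
          let σ : MvPolynomial (ULift.{u} (Fin (rdim R q))) R →ₐ[R] MvPolynomial (Fin (rdim R q + b)) R :=
            MvPolynomial.aeval fun i => MvPolynomial.X (Fin.castAdd b i.down)
          have hcomp : (MvPolynomial.aeval (R := R) x).toRingHom.comp σ.toRingHom =
              (MvPolynomial.aeval (R := R) t).toRingHom :=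
            MvPolynomial.ringHom_ext (fun e => by simp [σ]) fun i => by simp [σ, x]
          rw [← hcomp, ← Ideal.comap_comap, ← Ideal.comap_comap, hzq]
        simpa using hgen.card_le
      show z.asIdeal = q
      rw [← hZ, ← hQ]
      refine congrArg (Ideal.comap inc) ?_
      exact eq_of_le_of_trdeg Q.asIdeal Z.asIdeal hWZ hrd
        (trdeg_fiber_eq p Z.asIdeal z.asIdeal hZ (congrArg PrimeSpectrum.asIdeal hzp)) hge

theorem exists_quasiFinite_away {P T : Type u} [CommRing P] [CommRing T] [Algebra P T] [Algebra.FiniteType P T]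
    (q : Ideal T) [q.IsPrime] [Algebra.QuasiFiniteAt P q] :
    ∃ g ∉ q, Algebra.QuasiFinite P (Localization.Away g) := by
  haveI : Algebra.WeaklyQuasiFiniteAt P q := inferInstance
  obtain ⟨S', hS', r, hr, H⟩ := Algebra.QuasiFiniteAt.exists_fg_and_exists_notMem_and_awayMap_bijective (R := P) q
  haveI : Module.Finite P S' := ⟨(Submodule.fg_top _).mpr hS'⟩
  haveI : Algebra.QuasiFinite P (Localization.Away r) := .trans _ S' _
  exact ⟨r.1, hr, .of_surjective_algHom (Localization.awayMapₐ S'.val r) H.2⟩

end Groth.Agent.NoethPre
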